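import Groth.Prelude.Def_W4c2movlemaddchowShuffle
import Mathlib.Data.Fin.Tuple.Sort
import Mathlib.Data.Set.Function
import Mathlib.Data.Set.Prod
import Mathlib.Data.Fin.Embedding

/-!
# Shuffles: factorisation through a block
-/

namespace Groth.Agent.Shuffle.Basic

open Equiv

variable {a t : ℕ}

/-- `σ` on the last `t` letters. -/
def extR (a : ℕ) (σ : Perm (Fin t)) : Perm (Fin (a + t)) :=
  finSumFinEquiv.permCongr ((Equiv.refl (Fin a)).sumCongr σ)

@[simp] theorem extR_castAdd (σ : Perm (Fin t)) (i : Fin a) :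
    extR a σ (Fin.castAdd t i) = Fin.castAdd t i := by
  simp [extR, Equiv.permCongr_apply]

@[simp] theorem extR_natAdd (σ : Perm (Fin t)) (i : Fin t) :
    extR a σ (Fin.natAdd a i) = Fin.natAdd a (σ i) := by
  simp [extR, Equiv.permCongr_apply]

@[simp] theorem extRight_castAdd (σ : Perm (Fin a)) (i : Fin a) :
    W4c2movlemaddchow.extRight a t σ (Fin.castAdd t i) = Fin.castAdd t (σ i) := by
  simp [W4c2movlemaddchow.extRight, Equiv.permCongr_apply]

@[simp] theorem extRight_natAdd (σ : Perm (Fin a)) (i : Fin t) :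
    W4c2movlemaddchow.extRight a t σ (Fin.natAdd a i) = Fin.natAdd a i := by
  simp [W4c2movlemaddchow.extRight, Equiv.permCongr_apply]

theorem sorted_unique {n : ℕ} {α : Type*} [LinearOrder α] {f : Fin n → α}
    (hf : Function.Injective f) {σ₁ σ₂ : Perm (Fin n)}
    (h₁ : Monotone (f ∘ σ₁)) (h₂ : Monotone (f ∘ σ₂)) : σ₁ = σ₂ := by
  refine Equiv.ext fun i => hf ?_
  exact congrFun (Tuple.unique_monotone h₁ h₂) i

theorem monotone_comp_iff {ι n : Type*} [Preorder ι] [LinearOrder n] {α : Type*} [PartialOrder α]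
    {g : n → α} (hg : StrictMono g) (f : ι → n) : Monotone (g ∘ f) ↔ Monotone f :=
  ⟨fun h _ _ hxy => hg.le_iff_le.1 (h hxy), fun h => hg.monotone.comp h⟩

theorem bijOn_right (r s t : ℕ) :
    Set.BijOn
      (fun p : Perm (Fin (r + s + t)) × Perm (Fin (r + s)) =>
        p.1 * W4c2movlemaddchow.extRight (r + s) t p.2)
      ({τ | W4c2movlemaddchow.IsShuffle₂ (r + s) t τ} ×ˢ {σ | W4c2movlemaddchow.IsShuffle₂ r s σ})
      {ν | W4c2movlemaddchow.IsShuffle₃ r s t ν} := by
  refine ⟨?_, ?_, ?_⟩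
  · rintro ⟨τ, σ⟩ ⟨⟨h₁, h₂⟩, h₃, h₄⟩
    refine ⟨?_, ?_, ?_⟩
    · simpa [Function.comp_def] using h₁.comp h₃
    · simpa [Function.comp_def] using h₁.comp h₄
    · simpa using h₂
  · rintro ⟨τ, σ⟩ ⟨⟨h₁, -⟩, -⟩ ⟨τ', σ'⟩ ⟨⟨h₁', -⟩, -⟩ h
    dsimp only at h
    have e : ∀ j, τ (Fin.castAdd t (σ j)) = τ' (Fin.castAdd t (σ' j)) := fun j => by
      have := congrArg (fun π : Perm _ => π (Fin.castAdd t j)) h
      simpa using this
    have hs : σ⁻¹ = σ'⁻¹ := by
      refine sorted_unique (f := fun j => τ (Fin.castAdd t (σ j))) ?_ ?_ ?_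
      · exact τ.injective.comp ((Fin.castAdd_injective _ _).comp σ.injective)
      · simpa [Function.comp_def] using h₁
      · simpa [Function.comp_def, e] using h₁'
    obtain rfl : σ = σ' := inv_injective hs
    exact Prod.ext (mul_right_cancel h) rfl
  · rintro ν ⟨h₁, h₂, h₃⟩
    let f : Fin (r + s) → Fin (r + s + t) := fun j => ν (Fin.castAdd t j)
    let π := Tuple.sort f
    have hπ : Monotone (f ∘ π) := Tuple.monotone_sort f
    have hπ' : StrictMono (f ∘ π) :=
      hπ.strictMono_of_injective ((ν.injective.comp (Fin.castAdd_injective _ _)).comp π.injective)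
    refine ⟨(ν * W4c2movlemaddchow.extRight (r + s) t π, π⁻¹), ⟨⟨?_, ?_⟩, ?_, ?_⟩, ?_⟩
    · simpa [f, Function.comp_def] using hπ
    · simpa using h₃
    · refine (monotone_comp_iff hπ' _).1 ?_
      simpa [f, Function.comp_def] using h₁
    · refine (monotone_comp_iff hπ' _).1 ?_
      simpa [f, Function.comp_def] using h₂
    · refine Equiv.ext fun i => ?_
      refine Fin.addCases (fun j => ?_) (fun j => ?_) i <;> simp

theorem bijOn_left (r s t : ℕ) :
    Set.BijOn
      (fun p : Perm (Fin (r + (s + t))) × Perm (Fin (s + t)) => p.1 * extR r p.2)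
      ({τ | W4c2movlemaddchow.IsShuffle₂ r (s + t) τ} ×ˢ {σ | W4c2movlemaddchow.IsShuffle₂ s t σ})
      {ν | Monotone (fun i : Fin r => ν (Fin.castAdd (s + t) i)) ∧
        Monotone (fun j : Fin s => ν (Fin.natAdd r (Fin.castAdd t j))) ∧
          Monotone (fun l : Fin t => ν (Fin.natAdd r (Fin.natAdd s l)))} := by
  refine ⟨?_, ?_, ?_⟩
  · rintro ⟨τ, σ⟩ ⟨⟨h₁, h₂⟩, h₃, h₄⟩
    refine ⟨?_, ?_, ?_⟩
    · simpa using h₁
    · simpa [Function.comp_def] using h₂.comp h₃
    · simpa [Function.comp_def] using h₂.comp h₄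
  · rintro ⟨τ, σ⟩ ⟨⟨-, h₁⟩, -⟩ ⟨τ', σ'⟩ ⟨⟨-, h₁'⟩, -⟩ h
    dsimp only at h
    have e : ∀ j, τ (Fin.natAdd r (σ j)) = τ' (Fin.natAdd r (σ' j)) := fun j => by
      have := congrArg (fun π : Perm _ => π (Fin.natAdd r j)) h
      simpa using this
    have hs : σ⁻¹ = σ'⁻¹ := by
      refine sorted_unique (f := fun j => τ (Fin.natAdd r (σ j))) ?_ ?_ ?_
      · exact τ.injective.comp ((Fin.natAdd_injective _ r).comp σ.injective)
      · simpa [Function.comp_def] using h₁
      · simpa [Function.comp_def, e] using h₁'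
    obtain rfl : σ = σ' := inv_injective hs
    exact Prod.ext (mul_right_cancel h) rfl
  · rintro ν ⟨h₁, h₂, h₃⟩
    let f : Fin (s + t) → Fin (r + (s + t)) := fun j => ν (Fin.natAdd r j)
    let π := Tuple.sort f
    have hπ : Monotone (f ∘ π) := Tuple.monotone_sort f
    have hπ' : StrictMono (f ∘ π) :=
      hπ.strictMono_of_injective ((ν.injective.comp (Fin.natAdd_injective _ r)).comp π.injective)
    refine ⟨(ν * extR r π, π⁻¹), ⟨⟨?_, ?_⟩, ?_, ?_⟩, ?_⟩
    · simpa using h₁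
    · simpa [f, Function.comp_def] using hπ
    · refine (monotone_comp_iff hπ' _).1 ?_
      simpa [f, Function.comp_def] using h₂
    · refine (monotone_comp_iff hπ' _).1 ?_
      simpa [f, Function.comp_def] using h₃
    · refine Equiv.ext fun i => ?_
      refine Fin.addCases (fun j => ?_) (fun j => ?_) i <;> simp

theorem monotone_finCongr {ι : Type*} [Preorder ι] {m n : ℕ} (h : m = n) (f : ι → Fin m) :
    Monotone (fun i => finCongr h (f i)) ↔ Monotone f := by
  subst h; simp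

theorem isShuffle₃_iff (r s t : ℕ) (ν : Perm (Fin (r + s + t))) :
    W4c2movlemaddchow.IsShuffle₃ r s t ν ↔
      (Monotone (fun i : Fin r => (finCongr (Nat.add_assoc r s t)).permCongr ν (Fin.castAdd (s + t) i)) ∧
        Monotone (fun j : Fin s =>
          (finCongr (Nat.add_assoc r s t)).permCongr ν (Fin.natAdd r (Fin.castAdd t j))) ∧
          Monotone (fun l : Fin t =>
            (finCongr (Nat.add_assoc r s t)).permCongr ν (Fin.natAdd r (Fin.natAdd s l)))) := by
  simp only [Equiv.permCongr_apply, monotone_finCongr]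
  have e₁ : ∀ i : Fin r, (finCongr (Nat.add_assoc r s t)).symm (Fin.castAdd (s + t) i) =
      Fin.castAdd t (Fin.castAdd s i) := fun i => Fin.ext rfl
  have e₂ : ∀ j : Fin s, (finCongr (Nat.add_assoc r s t)).symm (Fin.natAdd r (Fin.castAdd t j)) =
      Fin.castAdd t (Fin.natAdd r j) := fun j => Fin.ext rfl
  have e₃ : ∀ l : Fin t, (finCongr (Nat.add_assoc r s t)).symm (Fin.natAdd r (Fin.natAdd s l)) =
      Fin.natAdd (r + s) l := fun l => Fin.ext (by simp [Nat.add_assoc])
  simp only [e₁, e₂, e₃]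
  rfl

theorem bijOn_left' (r s t : ℕ) :
    Set.BijOn
      (fun p : Perm (Fin (r + s + t)) × Perm (Fin (s + t)) =>
        p.1 * W4c2movlemaddchow.extLeft r s t p.2)
      ({τ | W4c2movlemaddchow.IsShuffle₂ r (s + t) ((finCongr (Nat.add_assoc r s t)).permCongr τ)} ×ˢ
        {σ | W4c2movlemaddchow.IsShuffle₂ s t σ})
      {ν | W4c2movlemaddchow.IsShuffle₃ r s t ν} := by
  let C := (finCongr (Nat.add_assoc r s t)).permCongr
  have hC : ∀ (p : Perm (Fin (r + s + t))) (σ : Perm (Fin (s + t))),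
      C (p * W4c2movlemaddchow.extLeft r s t σ) = C p * extR r σ := fun p σ => by
    refine Equiv.ext fun i => ?_
    simp [C, Equiv.permCongr_apply, W4c2movlemaddchow.extLeft, extR]
  have hL := bijOn_left r s t
  refine ⟨?_, ?_, ?_⟩
  · rintro ⟨τ, σ⟩ hp
    rw [Set.mem_ofPred_eq, isShuffle₃_iff]
    change _ ∧ _
    have := hL.mapsTo (x := (C τ, σ)) hp
    dsimp only at this ⊢
    rw [← hC] at this
    exact this
  · rintro ⟨τ, σ⟩ hp ⟨τ', σ'⟩ hp' h
    have := hL.injOn (x₁ := (C τ, σ)) hp (x₂ := (C τ', σ')) hp' (by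
      dsimp only at h ⊢; rw [← hC, ← hC, h])
    simp only [Prod.mk.injEq, EmbeddingLike.apply_eq_iff_eq] at this
    rw [this.1, this.2]
  · intro ν hν
    rw [Set.mem_ofPred_eq, isShuffle₃_iff] at hν
    obtain ⟨⟨τ, σ⟩, hp, h⟩ := hL.surjOn (a := C ν) hν
    refine ⟨(C.symm τ, σ), ⟨?_, hp.2⟩, C.injective ?_⟩
    · show W4c2movlemaddchow.IsShuffle₂ r (s + t) (C (C.symm τ))
      rw [C.apply_symm_apply]; exact hp.1
    · dsimp only at h ⊢; rw [hC, C.apply_symm_apply, h]

theorem sign_extRight (a t : ℕ) (σ : Perm (Fin a)) :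
    Perm.sign (W4c2movlemaddchow.extRight a t σ) = Perm.sign σ := by
  simp [W4c2movlemaddchow.extRight]

theorem sign_extLeft (r s t : ℕ) (σ : Perm (Fin (s + t))) :
    Perm.sign (W4c2movlemaddchow.extLeft r s t σ) = Perm.sign σ := by
  simp [W4c2movlemaddchow.extLeft]

end Groth.Agent.Shuffle.Basic
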